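/-
A counting argument for groups in which centralizers are abelian.

`commute_of_pow_eq_one`: if centralizers of non-identity elements are abelian, elements of
exponent `p` commute only with such elements, and an element outside them that commutes with
one of its conjugates is centralized by the conjugating element, then the elements with
`x ^ p = 1` commute with each other (so they form a normal subgroup).
-/
import Cfsg.Agent.EqLemmas

set_option autoImplicit false

namespace Cfsg.Agent.GL2Odd

variable {T : Type*} [Group T]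

/-- The hypotheses of the count. -/
structure Counted (p : ℕ) (T : Type*) [Group T] : Prop where
  ca : ∀ x y z : T, x ≠ 1 → Commute y x → Commute z x → Commute y z
  sep : ∀ x y : T, x ≠ 1 → x ^ p = 1 → Commute x y → y ^ p = 1
  self_norm : ∀ n x : T, x ^ p ≠ 1 → Commute (n * x * n⁻¹) x → Commute n x
  ppow : ∀ (x : T) (k : ℕ), x ^ p ^ k = 1 → x ^ p = 1

variable {p : ℕ} (h : Counted p T)
include h

theorem Counted.subgroup (S : Subgroup T) : Counted p S where
  ca x y z hx hy hz := by
    refine Subtype.ext ?_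
    exact h.ca x y z (fun hh => hx (OneMemClass.coe_eq_one.1 hh)) (congrArg Subtype.val hy.eq)
      (congrArg Subtype.val hz.eq)
  sep x y hx hxp hc := by
    refine Subtype.ext ?_
    rw [SubgroupClass.coe_pow, OneMemClass.coe_one]
    exact h.sep x y (fun hh => hx (OneMemClass.coe_eq_one.1 hh))
      (by rw [← SubgroupClass.coe_pow, hxp, OneMemClass.coe_one]) (congrArg Subtype.val hc.eq)
  self_norm n x hx hc := by
    refine Subtype.ext (h.self_norm n x ?_ (congrArg Subtype.val hc.eq))
    intro hh
    exact hx (Subtype.ext (by rw [SubgroupClass.coe_pow, hh, OneMemClass.coe_one]))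
  ppow x k hx := by
    refine Subtype.ext ?_
    rw [SubgroupClass.coe_pow, OneMemClass.coe_one]
    exact h.ppow x k (by rw [← SubgroupClass.coe_pow, hx, OneMemClass.coe_one])

variable [Finite T]

/-- The classes of `y`'s centralizer exhaust the elements with `x ^ p ≠ 1`. -/
theorem Counted.card_semisimple [Fact p.Prime] {y : T} (hy : y ^ p ≠ 1) :
    Nat.card {x : T // x ^ p ≠ 1} =
      (Subgroup.centralizer ({y} : Set T)).index *
        (Nat.card (Subgroup.centralizer ({y} : Set T)) - 1) := by
  classical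
  cases nonempty_fintype T
  have key : ∀ y : T, y ^ p ≠ 1 → ∃ K : Finset T,
      K.card = (Subgroup.centralizer ({y} : Set T)).index *
        (Nat.card (Subgroup.centralizer ({y} : Set T)) - 1) ∧
      y ∈ K ∧ (∀ x ∈ K, x ^ p ≠ 1) ∧
      ∀ x : T, x ∈ K ↔ x ≠ 1 ∧ ∃ g : T, Commute (g⁻¹ * x * g) y := by
    intro y hy
    set C := Subgroup.centralizer ({y} : Set T) with hC
    have hy1 : y ≠ 1 := fun hh => hy (by rw [hh, one_pow])
    have mC : ∀ a : T, a ∈ C ↔ Commute a y := fun a => Subgroup.mem_centralizer_singleton_iff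
    have hss : ∀ a : T, a ≠ 1 → Commute a y → a ^ p ≠ 1 := fun a ha hay hap =>
      hy (h.sep a y ha hap hay)
    let f : (T ⧸ C) × {a : C // a ≠ 1} → T := fun z =>
      z.1.out * ((z.2.1 : C) : T) * z.1.out⁻¹
    have hf : Function.Injective f := by
      rintro ⟨i, a⟩ ⟨j, b⟩ hab
      have ha1 : ((a.1 : C) : T) ≠ 1 := fun hh => a.2 (OneMemClass.coe_eq_one.1 hh)
      have hcy : Commute ((a.1 : C) : T) y := (mC _).1 a.1.2
      have hconj : (j.out⁻¹ * i.out) * ((a.1 : C) : T) * (j.out⁻¹ * i.out)⁻¹ = ((b.1 : C) : T) := by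
        calc (j.out⁻¹ * i.out) * ((a.1 : C) : T) * (j.out⁻¹ * i.out)⁻¹
            = j.out⁻¹ * f (i, a) * j.out := by simp only [f]; group
          _ = j.out⁻¹ * f (j, b) * j.out := by rw [hab]
          _ = ((b.1 : C) : T) := by simp only [f]; group
      have hn : Commute (j.out⁻¹ * i.out) ((a.1 : C) : T) := by
        refine h.self_norm _ _ (hss _ ha1 hcy) ?_
        rw [hconj]
        exact h.ca y _ _ hy1 ((mC _).1 b.1.2) hcy
      have hmem : j.out⁻¹ * i.out ∈ C := (mC _).2 (h.ca _ _ _ ha1 hn hcy.symm)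
      have hij : j = i := by
        rw [← QuotientGroup.out_eq' j, ← QuotientGroup.out_eq' i]
        exact QuotientGroup.eq.2 hmem
      subst hij
      have : ((a.1 : C) : T) = ((b.1 : C) : T) := by
        simpa [f] using hab
      exact Prod.ext rfl (Subtype.ext (Subtype.ext this))
    refine ⟨Finset.univ.image f, ?_, ?_, ?_, ?_⟩
    · rw [Finset.card_image_of_injective _ hf, Finset.card_univ, Fintype.card_prod,
        Fintype.card_subtype_compl, Fintype.card_subtype_eq, ← Nat.card_eq_fintype_card,
        ← Nat.card_eq_fintype_card, Subgroup.index_eq_card]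
    rotate_left 2
    · intro x
      simp only [Finset.mem_image, Finset.mem_univ, true_and]
      constructor
      · rintro ⟨⟨i, a⟩, rfl⟩
        refine ⟨?_, i.out, ?_⟩
        · intro hh
          exact a.2 (OneMemClass.coe_eq_one.1 (conj_eq_one_iff.1 hh))
        · have hh : i.out⁻¹ * f (i, a) * i.out = ((a.1 : C) : T) := by simp only [f]; group
          rw [hh]
          exact (mC _).1 a.1.2
      · rintro ⟨hx, g, hg⟩
        obtain ⟨c, hc⟩ := QuotientGroup.mk_out_eq_mul C g
        set a := (c : T)⁻¹ * (g⁻¹ * x * g) * (c : T) with ha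
        have haC : a ∈ C := mul_mem (mul_mem (inv_mem c.2) ((mC _).2 hg)) c.2
        refine ⟨((g : T ⧸ C), ⟨⟨a, haC⟩, ?_⟩), ?_⟩
        · intro hh
          have h2 : a = 1 := congrArg Subtype.val hh
          apply hx
          calc x = g * ((c : T) * a * (c : T)⁻¹) * g⁻¹ := by rw [ha]; group
            _ = 1 := by rw [h2]; group
        · simp only [f, hc, ha]
          group
    · simp only [Finset.mem_image, Finset.mem_univ, true_and]
      obtain ⟨c, hc⟩ := QuotientGroup.mk_out_eq_mul C 1
      have hcy : Commute (c : T) y := (mC _).1 c.2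
      refine ⟨(((1 : T) : T ⧸ C), ⟨⟨y, (mC _).2 (Commute.refl y)⟩,
        fun hh => hy1 (congrArg Subtype.val hh)⟩), ?_⟩
      simp only [f, hc, one_mul]
      rw [hcy.eq, mul_inv_cancel_right]
    · intro x hx hxp
      simp only [Finset.mem_image, Finset.mem_univ, true_and] at hx
      obtain ⟨⟨i, a⟩, rfl⟩ := hx
      have ha1 : ((a.1 : C) : T) ≠ 1 := fun hh => a.2 (OneMemClass.coe_eq_one.1 hh)
      rw [show f (i, a) = i.out * ((a.1 : C) : T) * i.out⁻¹ from rfl, conj_pow,
        conj_eq_one_iff] at hxp
      exact hss _ ha1 ((mC _).1 a.1.2) hxp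
  obtain ⟨K, hK, -, hKs, hKmem⟩ := key y hy
  rw [← hK, Nat.card_eq_fintype_card, Fintype.card_subtype]
  refine congrArg Finset.card (Finset.ext fun z => ?_)
  simp only [Finset.mem_filter, Finset.mem_univ, true_and]
  refine ⟨fun hz => ?_, hKs z⟩
  -- a second class would not fit
  by_contra hzK
  obtain ⟨L, hL, hzL, hLs, hLmem⟩ := key z hz
  have hy1 : y ≠ 1 := fun hh => hy (by rw [hh, one_pow])
  have hz1 : z ≠ 1 := fun hh => hz (by rw [hh, one_pow])
  have hdisj : Disjoint K L := by
    rw [Finset.disjoint_left]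
    intro x hxK hxL
    obtain ⟨hx1, g, hg⟩ := (hKmem x).1 hxK
    obtain ⟨-, g', hg'⟩ := (hLmem x).1 hxL
    refine hzK ((hKmem z).2 ⟨hz1, g'⁻¹ * g, ?_⟩)
    have ha1 : g⁻¹ * x * g ≠ 1 := by
      intro hh
      apply hx1
      calc x = g * (g⁻¹ * x * g) * g⁻¹ := by group
        _ = 1 := by rw [hh]; group
    refine h.ca _ _ _ ha1 ?_ hg.symm
    have h2 := hg'.map (MulAut.conj (g'⁻¹ * g)⁻¹).toMonoidHom
    simp only [MulEquiv.coe_toMonoidHom, MulAut.conj_apply, inv_inv] at h2
    have e : (g'⁻¹ * g)⁻¹ * (g'⁻¹ * x * g') * (g'⁻¹ * g) = g⁻¹ * x * g := by group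
    rw [e] at h2
    exact h2.symm
  have hle : (K ∪ L).card ≤ Fintype.card T - 1 := by
    rw [← Finset.card_univ, ← Finset.card_erase_of_mem (Finset.mem_univ (1 : T))]
    refine Finset.card_le_card fun x hx => Finset.mem_erase.2 ⟨?_, Finset.mem_univ _⟩
    rcases Finset.mem_union.1 hx with hx | hx
    · exact ((hKmem x).1 hx).1
    · exact ((hLmem x).1 hx).1
  rw [Finset.card_union_of_disjoint hdisj, hK, hL, ← Nat.card_eq_fintype_card] at hle
  have e1 := Subgroup.index_mul_card (Subgroup.centralizer ({y} : Set T))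
  have e2 := Subgroup.index_mul_card (Subgroup.centralizer ({z} : Set T))
  have two_le : ∀ w : T, w ≠ 1 → 2 ≤ Nat.card (Subgroup.centralizer ({w} : Set T)) := by
    intro w hw
    have h1 : Subgroup.centralizer ({w} : Set T) ≠ ⊥ := fun hb => hw (by
      have hmem : w ∈ Subgroup.centralizer ({w} : Set T) :=
        Subgroup.mem_centralizer_singleton_iff.2 rfl
      rwa [hb, Subgroup.mem_bot] at hmem)
    exact (Subgroup.one_lt_card_iff_ne_bot _).2 h1
  have k1 : ∀ i c : ℕ, 2 ≤ c → i * c ≤ 2 * (i * (c - 1)) := fun i c hc => by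
    rw [← mul_left_comm]
    exact Nat.mul_le_mul le_rfl (by omega)
  have hy2 := k1 (Subgroup.centralizer ({y} : Set T)).index _ (two_le y hy1)
  have hz2 := k1 (Subgroup.centralizer ({z} : Set T)).index _ (two_le z hz1)
  have hpos : 0 < Nat.card T := Nat.card_pos
  omega

theorem Counted.isPGroup_of_forall [Fact p.Prime] (hall : ∀ x : T, x ^ p = 1) : IsPGroup p T :=
  fun x => ⟨1, by rw [pow_one]; exact hall x⟩

theorem Counted.commute_sylow [Fact p.Prime] (P : Sylow p T) {a b : T} (ha : a ∈ P) (hb : b ∈ P) :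
    Commute a b := by
  by_cases hP : Nontrivial P
  · haveI : Nontrivial P := hP
    haveI := P.isPGroup'.center_nontrivial
    obtain ⟨z, hz1⟩ := exists_ne (1 : Subgroup.center P)
    have hz : ((z : P) : T) ≠ 1 := fun hh =>
      hz1 (Subtype.ext (OneMemClass.coe_eq_one.1 hh))
    exact h.ca _ a b hz
      (congrArg Subtype.val (Subgroup.mem_center_iff.1 z.2 ⟨a, ha⟩))
      (congrArg Subtype.val (Subgroup.mem_center_iff.1 z.2 ⟨b, hb⟩))
  · rw [not_nontrivial_iff_subsingleton] at hP
    have : (⟨a, ha⟩ : P) = ⟨b, hb⟩ := Subsingleton.elim _ _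
    rw [show a = b from congrArg Subtype.val this]

theorem Counted.mem_sylow_of_commute [Fact p.Prime] {P : Sylow p T} {a b : T} (ha : a ∈ P)
    (ha1 : a ≠ 1) (hc : Commute b a) : b ∈ P := by
  set C := Subgroup.centralizer ({a} : Set T) with hC
  have hap : a ^ p = 1 := by
    obtain ⟨k, hk⟩ := P.isPGroup' ⟨a, ha⟩
    exact h.ppow a k (congrArg Subtype.val hk)
  have hCp : IsPGroup p C := fun c => ⟨1, by
    rw [pow_one]
    exact Subtype.ext (h.sep a c ha1 hap
      (show Commute (c : T) a from Subgroup.mem_centralizer_singleton_iff.1 c.2).symm)⟩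
  have hle : (P : Subgroup T) ≤ C := fun x hx =>
    Subgroup.mem_centralizer_singleton_iff.2 (h.commute_sylow P hx ha)
  show b ∈ (P : Subgroup T)
  rw [← P.is_maximal' hCp hle]
  exact Subgroup.mem_centralizer_singleton_iff.2 hc

theorem Counted.card_unipotent [Fact p.Prime] :
    Nat.card {x : T // x ≠ 1 ∧ x ^ p = 1} =
      ∑ᶠ P : Sylow p T, (Nat.card P - 1) := by
  classical
  cases nonempty_fintype T
  have := Fintype.ofFinite (Sylow p T)
  rw [finsum_eq_sum_of_fintype, Nat.card_eq_fintype_card, Fintype.card_subtype]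
  rw [Finset.sum_congr rfl (g := fun P : Sylow p T =>
    (Finset.univ.filter fun x : T => x ∈ P ∧ x ≠ 1).card) fun P _ => ?_]
  · rw [← Finset.card_biUnion]
    · refine congrArg Finset.card (Finset.ext fun x => ?_)
      simp only [Finset.mem_filter, Finset.mem_univ, true_and, Finset.mem_biUnion]
      constructor
      · rintro ⟨hx1, hxp⟩
        have hX : IsPGroup p (Subgroup.zpowers x) := by
          rintro ⟨w, i, rfl⟩
          refine ⟨1, Subtype.ext ?_⟩
          show (x ^ i) ^ p ^ 1 = 1
          rw [pow_one, ← zpow_natCast (x ^ i), ← zpow_mul, mul_comm, zpow_mul, zpow_natCast, hxp,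
            one_zpow]
        obtain ⟨Q, hQ⟩ := hX.exists_le_sylow
        exact ⟨Q, hQ (Subgroup.mem_zpowers x), hx1⟩
      · rintro ⟨P, hP, hx1⟩
        refine ⟨hx1, ?_⟩
        obtain ⟨k, hk⟩ := P.isPGroup' ⟨x, hP⟩
        exact h.ppow x k (congrArg Subtype.val hk)
    · intro P _ Q _ hne
      rw [Function.onFun, Finset.disjoint_left]
      intro x hx hx'
      simp only [Finset.mem_filter, Finset.mem_univ, true_and] at hx hx'
      apply hne
      refine Sylow.ext (le_antisymm (fun y hy => ?_) fun y hy => ?_)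
      · exact h.mem_sylow_of_commute hx'.1 hx.2 (h.commute_sylow P hy hx.1)
      · exact h.mem_sylow_of_commute hx.1 hx.2 (h.commute_sylow Q hy hx'.1)
  · have e : (Finset.univ.filter fun x : T => x ∈ P ∧ x ≠ 1) =
        (Finset.univ.filter fun x : T => x ∈ P).erase 1 := by
      ext x; simp [and_comm]
    rw [e, Finset.card_erase_of_mem (by simp [one_mem]), Nat.card_eq_fintype_card,
      Fintype.card_subtype]
    rfl

theorem Counted.card_split :
    Nat.card T = 1 + Nat.card {x : T // x ≠ 1 ∧ x ^ p = 1} + Nat.card {x : T // x ^ p ≠ 1} := by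
  classical
  cases nonempty_fintype T
  simp only [Nat.card_eq_fintype_card, Fintype.card_subtype]
  have e : (Finset.univ.filter fun x : T => x ≠ 1 ∧ x ^ p = 1) =
      (Finset.univ.filter fun x : T => x ^ p = 1).erase 1 := by
    ext x; simp
  have h1 : (1 : T) ∈ Finset.univ.filter fun x : T => x ^ p = 1 := by simp
  rw [e, Finset.card_erase_of_mem h1]
  have h2 := Finset.card_pos.2 ⟨1, h1⟩
  have h3 := Finset.card_filter_add_card_filter_not (s := (Finset.univ : Finset T))
    (fun x : T => x ^ p = 1)
  rw [Finset.card_univ] at h3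
  simp only [ne_eq]
  omega

/-- Elements with `x ^ p = 1` commute. -/
theorem Counted.commute_of_pow_eq_one [hp : Fact p.Prime] {a b : T} (ha : a ^ p = 1)
    (hb : b ^ p = 1) : Commute a b := by
  classical
  have hz : ∀ x : T, x ^ p = 1 → IsPGroup p (Subgroup.zpowers x) := by
    intro x hx
    rintro ⟨w, i, rfl⟩
    refine ⟨1, Subtype.ext ?_⟩
    show (x ^ i) ^ p ^ 1 = 1
    rw [pow_one, ← zpow_natCast (x ^ i), ← zpow_mul, mul_comm, zpow_mul, zpow_natCast, hx,
      one_zpow]
  suffices hsub : Subsingleton (Sylow p T) by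
    obtain ⟨P, hP⟩ := (hz a ha).exists_le_sylow
    obtain ⟨Q, hQ⟩ := (hz b hb).exists_le_sylow
    rw [Subsingleton.elim Q P] at hQ
    exact h.commute_sylow P (hP (Subgroup.mem_zpowers a)) (hQ (Subgroup.mem_zpowers b))
  by_cases hss : ∀ x : T, x ^ p = 1
  · have hT := h.isPGroup_of_forall hss
    refine ⟨fun P Q => ?_⟩
    have hP : ∀ R : Sylow p T, (R : Subgroup T) = ⊤ := fun R =>
      (R.is_maximal' (hT.to_subgroup ⊤) le_top).symm
    exact Sylow.ext ((hP P).trans (hP Q).symm)
  push Not at hss
  obtain ⟨y, hy⟩ := hss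
  obtain ⟨P⟩ : Nonempty (Sylow p T) := inferInstance
  set N := Subgroup.normalizer ((P : Subgroup T) : Set T) with hN
  set q := Nat.card P with hq
  set np := Nat.card (Sylow p T) with hnp
  -- counting in `T`
  have hU : Nat.card {x : T // x ≠ 1 ∧ x ^ p = 1} = np * (q - 1) := by
    rw [h.card_unipotent]
    have := Fintype.ofFinite (Sylow p T)
    rw [finsum_eq_sum_of_fintype, Finset.sum_congr rfl (g := fun _ => q - 1) fun R _ => ?_,
      Finset.sum_const, Finset.card_univ, smul_eq_mul, ← Nat.card_eq_fintype_card]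
    rw [hq, Sylow.card_eq_multiplicity, Sylow.card_eq_multiplicity]
  have hS := h.card_semisimple hy
  set c := Nat.card (Subgroup.centralizer ({y} : Set T)) with hc
  set k := (Subgroup.centralizer ({y} : Set T)).index with hk
  have hn : k * c = Nat.card T := Subgroup.index_mul_card _
  have hsplit := h.card_split
  rw [hU, hS] at hsplit
  have hkc : k * c = k + k * (c - 1) := by
    obtain ⟨c', hc'⟩ : ∃ c', c = c' + 1 :=
      ⟨c - 1, by have : 0 < c := Nat.card_pos; omega⟩
    rw [hc', Nat.add_sub_cancel]; ring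
  have hk1 : k = 1 + np * (q - 1) := by omega
  have hnpN : np * Nat.card N = Nat.card T := by
    rw [hnp, Sylow.card_eq_index_normalizer P]; exact Subgroup.index_mul_card _
  -- `q = 1` is trivial
  rcases Nat.lt_or_ge q 2 with hq2 | hq2
  · have hP : (P : Subgroup T) = ⊥ := by
      refine Subgroup.eq_bot_of_card_eq _ ?_
      have : 0 < q := Nat.card_pos
      show q = 1
      omega
    haveI : (P : Subgroup T).Normal := hP ▸ inferInstance
    have := Sylow.unique_of_normal P inferInstance
    infer_instance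
  -- counting in `N`
  have hcN : ∃ e j, Nat.card N = q * e ∧ c = j * e ∧ 0 < j ∧ 0 < e ∧ (e = 1 → 2 ≤ j) := by
    have hy1 : y ≠ 1 := fun hh => hy (by rw [hh, one_pow])
    have hc2 : 2 ≤ c := by
      have h1 : Subgroup.centralizer ({y} : Set T) ≠ ⊥ := fun hb => hy1 (by
        have hmem : y ∈ Subgroup.centralizer ({y} : Set T) :=
          Subgroup.mem_centralizer_singleton_iff.2 rfl
        rwa [hb, Subgroup.mem_bot] at hmem)
      exact (Subgroup.one_lt_card_iff_ne_bot _).2 h1
    by_cases hNs : ∀ x ∈ N, x ^ p = 1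
    · refine ⟨1, c, ?_, (mul_one c).symm, by omega, one_pos, fun _ => hc2⟩
      have hNp : IsPGroup p N := fun x => ⟨1, by rw [pow_one]; exact Subtype.ext (hNs x x.2)⟩
      rw [mul_one, hq]
      exact congrArg (fun S : Subgroup T => Nat.card S) (P.is_maximal' hNp Subgroup.le_normalizer)
    · push Not at hNs
      obtain ⟨w, hwN, hw⟩ := hNs
      have hhN := h.subgroup N
      have hwp : (⟨w, hwN⟩ : N) ^ p ≠ 1 := fun hh => hw (congrArg Subtype.val hh)
      have hSN := hhN.card_semisimple hwp
      set e := Nat.card (Subgroup.centralizer ({⟨w, hwN⟩} : Set N)) with he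
      have hkN := Subgroup.index_mul_card (Subgroup.centralizer ({⟨w, hwN⟩} : Set N))
      rw [← he] at hkN
      have he0 : 0 < e := Nat.card_pos
      have hsplitN := hhN.card_split
      have hUN : Nat.card {x : N // x ≠ 1 ∧ x ^ p = 1} = q - 1 := by
        have hsub : ∀ x : N, x ^ p = 1 → (x : T) ∈ (P : Subgroup T) := by
          intro x hx
          have hX := hz (x : T) (by rw [← SubgroupClass.coe_pow, hx, OneMemClass.coe_one])
          have h1 : IsPGroup p ↥(Subgroup.zpowers (x : T) ⊔ (P : Subgroup T)) :=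
            hX.to_sup_of_normal_right' P.isPGroup' (Subgroup.zpowers_le.2 x.2)
          rw [← P.is_maximal' h1 le_sup_right]
          exact Subgroup.mem_sup_left (Subgroup.mem_zpowers _)
        have e2 : {x : N // x ≠ 1 ∧ x ^ p = 1} ≃ {x : P // x ≠ 1} :=
          { toFun := fun x => ⟨⟨x.1, hsub _ x.2.2⟩, fun hh =>
              x.2.1 (Subtype.ext (congrArg (fun z : P => (z : T)) hh))⟩
            invFun := fun x => ⟨⟨x.1, Subgroup.le_normalizer x.1.2⟩, fun hh =>
              x.2 (Subtype.ext (congrArg (fun z : N => (z : T)) hh)), by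
                obtain ⟨i, hi⟩ := P.isPGroup' x.1
                exact Subtype.ext (h.ppow _ i (congrArg Subtype.val hi))⟩
            left_inv := fun _ => rfl
            right_inv := fun _ => rfl }
        rw [Nat.card_congr e2, hq]
        cases nonempty_fintype T
        simp only [Nat.card_eq_fintype_card, ne_eq, Fintype.card_subtype_compl,
          Fintype.card_subtype_eq]
        exact congrArg (· - 1) (Fintype.card_congr (Equiv.refl _))
      rw [hUN, hSN] at hsplitN
      have hid : (Subgroup.centralizer ({⟨w, hwN⟩} : Set N)).index = q := by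
        set i := (Subgroup.centralizer ({⟨w, hwN⟩} : Set N)).index with hi
        have hie : i * e = i + i * (e - 1) := by
          obtain ⟨e', he'⟩ : ∃ e', e = e' + 1 := ⟨e - 1, by omega⟩
          rw [he', Nat.add_sub_cancel]; ring
        omega
      have he1 : e ≠ 1 := fun hh => hwp (by
        have h1 := Subgroup.eq_bot_of_card_eq _ hh
        have hmem : (⟨w, hwN⟩ : N) ∈ Subgroup.centralizer ({⟨w, hwN⟩} : Set N) :=
          Subgroup.mem_centralizer_singleton_iff.2 rfl
        rw [h1, Subgroup.mem_bot] at hmem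
        rw [hmem, one_pow])
      -- `e` divides `c`
      have hdvd : e ∣ c := by
        have hcw : Nat.card (Subgroup.centralizer ({w} : Set T)) = c := by
          have h1 := h.card_semisimple hw
          have h2 := Subgroup.index_mul_card (Subgroup.centralizer ({w} : Set T))
          set i := (Subgroup.centralizer ({w} : Set T)).index
          set d := Nat.card (Subgroup.centralizer ({w} : Set T)) with hd
          obtain ⟨d', hd'⟩ : ∃ d', d = d' + 1 :=
            ⟨d - 1, by have : 0 < d := Nat.card_pos; omega⟩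
          rw [hd', Nat.add_sub_cancel] at h1
          rw [hd', Nat.mul_add, mul_one] at h2
          have hik : i = k := by omega
          have hk0 : 0 < k := by omega
          refine Nat.eq_of_mul_eq_mul_left hk0 ?_
          rw [hd', Nat.mul_add, mul_one, ← hik, h2, ← hn, hik]
        rw [← hcw, he, Nat.card_congr ((Subgroup.centralizer ({⟨w, hwN⟩} : Set N)).equivMapOfInjective
          N.subtype N.subtype_injective).toEquiv]
        refine Subgroup.card_dvd_of_le ?_
        rintro _ ⟨x, hx, rfl⟩
        exact Subgroup.mem_centralizer_singleton_iff.2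
          (congrArg Subtype.val (Subgroup.mem_centralizer_singleton_iff.1 hx))
      obtain ⟨j, hj⟩ := hdvd
      refine ⟨e, j, ?_, by rw [hj, mul_comm], ?_, he0, fun hh => absurd hh he1⟩
      · rw [← hkN, hid]
      · rcases Nat.eq_zero_or_pos j with rfl | hj0
        · omega
        · exact hj0
  obtain ⟨e, j, hNe, hje, hj0, he0, -⟩ := hcN
  -- `np * q = j * k`
  have hmain : np * q = j * (1 + np * (q - 1)) := by
    have h1 : np * (q * e) = k * (j * e) := by rw [← hNe, ← hje, hnpN, hn]
    rw [hk1] at h1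
    refine Nat.eq_of_mul_eq_mul_right he0 ?_
    rw [mul_assoc, h1]; ring
  have hnp0 : 0 < np := Nat.card_pos
  have hnp1 : np = 1 := by
    obtain ⟨q', hq'⟩ : ∃ q', q = q' + 2 := ⟨q - 2, by omega⟩
    rw [hq', show q' + 2 - 1 = q' + 1 by omega] at hmain
    rcases Nat.lt_or_ge j 2 with hj2 | hj2
    · obtain rfl : j = 1 := by omega
      nlinarith
    · nlinarith [Nat.mul_le_mul_right (1 + np * (q' + 1)) hj2]
  exact (Nat.card_eq_one_iff_unique.1 (hnp ▸ hnp1)).1

end Cfsg.Agent.GL2Odd
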