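/-
Odd order subgroups of `GL_2` in odd characteristic `p`.

* `counted_of_odd` : a finite odd order subgroup of `SL_2` satisfies `Counted`
* `commute_of_orderOf_eq` : its elements with `x ^ p = 1` commute
* `exists_fixed_line` : a finite odd order subgroup of `GL_2` with an element of order `p` fixes a line
-/
import Cfsg.Agent.Lib.GL2Odd.Count
import Cfsg.Agent.Lib.PSL2.Basic

set_option autoImplicit false

open Matrix Cfsg.Agent.PSL2

namespace Cfsg.Agent.GL2Odd

variable {F : Type*} [Field F] (p : ℕ) [Fact p.Prime] [CharP F p]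

theorem two_ne_zero' (hp : p ≠ 2) : (2 : F) ≠ 0 :=
  Ring.two_ne_zero (by rwa [ringChar.eq F p])

theorem neg_one_ne_one (hp : p ≠ 2) : (-1 : SL2 F) ≠ 1 := by
  intro h
  have := congrArg (fun g : SL2 F => g.1 0 0) h
  simp at this
  exact two_ne_zero' p hp (by linear_combination -this)

theorem pow_char_of_tr_two {x : SL2 F} (h : tr x = 2) : x ^ p = 1 := by
  have h0 : (x.1 - 1) ^ 2 = 0 := by
    rw [pow_two, sub_mul, mul_sub, mul_sub, one_mul, mul_one, one_mul, coe_sq, h]
    module
  have hp2 := (Fact.out : p.Prime).two_le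
  have h1 : (x.1 - 1) ^ p = 0 := by
    rw [show p = 2 + (p - 2) by omega, pow_add, h0, zero_mul]
  rw [sub_pow_char_of_commute p (Commute.one_right _), one_pow, sub_eq_zero] at h1
  exact Subtype.ext (by simpa using h1)

theorem tr_eq_two_of_pow {x : SL2 F} {k : ℕ} (h : x ^ p ^ k = 1) : tr x = 2 := by
  have h1 : (x.1 - 1) ^ p ^ k = 0 := by
    rw [sub_pow_char_pow_of_commute _ _ (Commute.one_right _), one_pow, sub_eq_zero]
    simpa using congrArg Subtype.val h
  have h2 := congrArg Matrix.det h1
  rw [Matrix.det_pow, Matrix.det_zero] at h2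
  have h3 := (pow_eq_zero_iff (pow_ne_zero k (Fact.out : p.Prime).ne_zero)).1 h2
  have h4 : lin x (-1) 1 = x.1 - 1 := by simp [lin]; abel
  rw [← h4, det_lin] at h3
  linear_combination -h3

theorem pow_char_of_tr_neg_two {x : SL2 F} (hp : p ≠ 2) (h : tr x = -2) : x ^ p = -1 := by
  have h1 : (-x) ^ p = 1 := pow_char_of_tr_two p (by rw [tr_neg, h, neg_neg])
  rw [((Fact.out : p.Prime).odd_of_ne_two hp).neg_pow] at h1
  rw [← h1, neg_neg]

variable {T : Subgroup (SL2 F)} [Finite T]

theorem not_mem_center_of_odd (hp : p ≠ 2) (hodd : Odd (Nat.card T)) {x : SL2 F} (hx : x ∈ T)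
    (hx1 : x ≠ 1) : x ∉ Subgroup.center (SL2 F) := by
  intro hc
  rcases mem_center_iff'.1 hc with h | h
  · exact hx1 h
  · have h2 : (⟨x, hx⟩ : T) ^ 2 = 1 := Subtype.ext (by simp [h])
    have hd : orderOf (⟨x, hx⟩ : T) ∣ 1 := by
      rw [← Nat.coprime_two_left.2 hodd]
      exact Nat.dvd_gcd (orderOf_dvd_of_pow_eq_one h2) (orderOf_dvd_natCard _)
    exact hx1 (congrArg Subtype.val (orderOf_eq_one_iff.1 (Nat.dvd_one.1 hd)))

theorem tr_ne_neg_two (hp : p ≠ 2) (hodd : Odd (Nat.card T)) {x : SL2 F} (hx : x ∈ T) :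
    tr x ≠ -2 := by
  intro h
  have h1 := pow_char_of_tr_neg_two p hp h
  exact not_mem_center_of_odd p hp hodd (pow_mem hx p) (h1 ▸ neg_one_ne_one p hp)
    (h1 ▸ mem_center_iff'.2 (Or.inr rfl))

theorem tr_lin (x y : SL2 F) {a b : F} (h : y.1 = lin x a b) : tr y = 2 * a + b * tr x := by
  simp [tr, h, lin]
  ring

theorem counted_of_odd (hp : p ≠ 2) (hodd : Odd (Nat.card T)) : Counted p T where
  ca x y z hx hy hz := by
    have hc := not_mem_center_of_odd p hp hodd x.2 fun h => hx (Subtype.ext h)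
    exact Subtype.ext (commute_of_commute hc (congrArg Subtype.val hy.eq)
      (congrArg Subtype.val hz.eq)).eq
  ppow x k hx := by
    refine Subtype.ext ?_
    rw [SubgroupClass.coe_pow, OneMemClass.coe_one]
    exact pow_char_of_tr_two p (tr_eq_two_of_pow p (k := k) (congrArg Subtype.val hx))
  sep x y hx hxp hc := by
    have htx : tr (x : SL2 F) = 2 :=
      tr_eq_two_of_pow p (k := 1) (by rw [pow_one]; exact congrArg Subtype.val hxp)
    have hcx := not_mem_center_of_odd p hp hodd x.2 fun h => hx (Subtype.ext h)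
    obtain ⟨a, b, hab⟩ := exists_lin_of_commute hcx (congrArg (fun g : T => g.1.1) hc.eq.symm)
    have hdet : (lin (x : SL2 F) a b).det = 1 := hab ▸ (y : SL2 F).2
    rw [det_lin, htx] at hdet
    have htr := tr_lin _ _ hab
    rw [htx] at htr
    have h1 : (a + b) ^ 2 = 1 := by linear_combination hdet
    refine Subtype.ext ?_
    rw [SubgroupClass.coe_pow, OneMemClass.coe_one]
    rcases sq_eq_one_iff.1 h1 with h | h
    · exact pow_char_of_tr_two p (by linear_combination htr + 2 * h)
    · exact absurd (show tr (y : SL2 F) = -2 by linear_combination htr + 2 * h)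
        (tr_ne_neg_two p hp hodd y.2)
  self_norm n x hx hc := by
    have hx1 : x ≠ 1 := fun h => hx (by rw [h, one_pow])
    have ht2 : tr (x : SL2 F) ≠ 2 := fun h =>
      hx (Subtype.ext (by simpa using pow_char_of_tr_two p h))
    have ht2' := tr_ne_neg_two p hp hodd x.2
    have hcx := not_mem_center_of_odd p hp hodd x.2 fun h => hx1 (Subtype.ext h)
    obtain ⟨a, b, hab⟩ := exists_lin_of_commute hcx (congrArg (fun g : T => g.1.1) hc.eq)
    have hab' : ((n : SL2 F) * x * (n : SL2 F)⁻¹).1 = lin (x : SL2 F) a b := hab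
    have htr : tr (x : SL2 F) = 2 * a + b * tr (x : SL2 F) := by
      rw [← tr_lin _ _ hab', tr_conj]
    have hdet : a ^ 2 + tr (x : SL2 F) * a * b + b ^ 2 = 1 := by
      rw [← det_lin, ← hab']
      exact ((n : SL2 F) * x * (n : SL2 F)⁻¹).2
    set t := tr (x : SL2 F) with ht
    have hkey : (1 - b) * (1 + b) * ((t - 2) * (t + 2)) = 0 := by
      linear_combination 4 * hdet + (2 * a + t + t * b) * htr
    have hb : b = 1 ∨ b = -1 := by
      rcases mul_eq_zero.1 hkey with h | h
      · rcases mul_eq_zero.1 h with h | h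
        · left; linear_combination -h
        · right; linear_combination h
      · rcases mul_eq_zero.1 h with h | h
        · exact absurd (sub_eq_zero.1 h) ht2
        · exact absurd (eq_neg_of_add_eq_zero_left h) ht2'
    have h2ne : (2 : F) ≠ 0 := two_ne_zero' p hp
    have hconj : Commute (n * n) x := by
      rcases hb with rfl | rfl
      · have ha : a = 0 := mul_left_cancel₀ h2ne (by linear_combination -htr)
        have h1 : n * x * n⁻¹ = x := by
          apply Subtype.ext
          apply Subtype.ext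
          rw [show ((n * x * n⁻¹ : T) : SL2 F).1 = lin (x : SL2 F) a 1 from hab, ha]
          simp [lin]
        have hcm : Commute n x := mul_inv_eq_iff_eq_mul.1 h1
        exact hcm.mul_left hcm
      · have ha : a = t := mul_left_cancel₀ h2ne (by linear_combination -htr)
        have h1 : n * x * n⁻¹ = x⁻¹ := by
          apply Subtype.ext
          apply Subtype.ext
          rw [show ((n * x * n⁻¹ : T) : SL2 F).1 = lin (x : SL2 F) a (-1) from hab, ha, ht]
          rw [show ((x⁻¹ : T) : SL2 F) = (x : SL2 F)⁻¹ from rfl,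
            Matrix.SpecialLinearGroup.coe_inv, Matrix.adjugate_fin_two]
          ext i j
          fin_cases i <;> fin_cases j <;> simp [lin, tr]
        show (n * n) * x = x * (n * n)
        have h2 : n * x⁻¹ * n⁻¹ = x := by
          calc n * x⁻¹ * n⁻¹ = (n * x * n⁻¹)⁻¹ := by group
            _ = x := by rw [h1, inv_inv]
        calc (n * n) * x = n * (n * x * n⁻¹) * n⁻¹ * (n * n) := by group
          _ = n * x⁻¹ * n⁻¹ * (n * n) := by rw [h1]
          _ = x * (n * n) := by rw [h2]
    obtain ⟨m, hm⟩ := (Odd.of_dvd_nat hodd (orderOf_dvd_natCard n) : Odd (orderOf n))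
    have hn : n = (n * n) ^ (m + 1) := by
      rw [← pow_two, ← pow_mul, show 2 * (m + 1) = orderOf n + 1 by omega, pow_succ,
        pow_orderOf_eq_one, one_mul]
    rw [hn]
    exact hconj.pow_left _

theorem commute_of_orderOf_eq (hp : p ≠ 2) (hodd : Odd (Nat.card T)) {x y : T}
    (hx : x ^ p = 1) (hy : y ^ p = 1) : Commute x y :=
  (counted_of_odd p hp hodd).commute_of_pow_eq_one hx hy

omit [Finite T] in
/-- A finite odd order subgroup of `GL_2` with order divisible by `p` fixes a line. -/
theorem exists_fixed_line (hp : p ≠ 2) (H : Subgroup (GL (Fin 2) F)) [Finite H]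
    (hodd : Odd (Nat.card H)) (hdvd : p ∣ Nat.card H) :
    ∃ v : Fin 2 → F, v ≠ 0 ∧
      ∀ g ∈ H, (g : Matrix (Fin 2) (Fin 2) F).mulVec v ∈ Submodule.span F {v} := by
  classical
  obtain ⟨u, hu⟩ := exists_prime_orderOf_dvd_card' p hdvd
  set U : GL (Fin 2) F := (u : GL (Fin 2) F) with hU
  have hUp : U ^ p = 1 := by
    rw [hU, ← SubgroupClass.coe_pow, ← hu, pow_orderOf_eq_one, OneMemClass.coe_one]
  have hUdet : (U : Matrix (Fin 2) (Fin 2) F).det = 1 := by
    have h := congrArg (fun g : GL (Fin 2) F => (g : Matrix (Fin 2) (Fin 2) F).det) hUp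
    simp only [Units.val_pow_eq_pow_val, Matrix.det_pow, Units.val_one, Matrix.det_one] at h
    have h0 : ((U : Matrix (Fin 2) (Fin 2) F).det - 1) ^ p = 0 := by
      rw [sub_pow_char, one_pow, h, sub_self]
    exact sub_eq_zero.1 ((pow_eq_zero_iff (Fact.out : p.Prime).ne_zero).1 h0)
  set x : SL2 F := ⟨(U : Matrix (Fin 2) (Fin 2) F), hUdet⟩ with hx
  let T : Subgroup (SL2 F) := H.comap Matrix.SpecialLinearGroup.toGL
  let f : T → H := fun t => ⟨Matrix.SpecialLinearGroup.toGL t.1, t.2⟩
  have hf : Function.Injective f := fun a b h =>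
    Subtype.ext (Matrix.SpecialLinearGroup.toGL_injective (congrArg Subtype.val h))
  haveI : Finite T := Finite.of_injective f hf
  let φ : T →* H :=
    MonoidHom.mk' f fun a b => Subtype.ext (map_mul Matrix.SpecialLinearGroup.toGL a.1 b.1)
  have hTodd : Odd (Nat.card T) :=
    Odd.of_dvd_nat hodd (Subgroup.card_dvd_of_injective φ hf)
  have htoGL : Matrix.SpecialLinearGroup.toGL x = U := Units.ext rfl
  have hxT : x ∈ T := by
    show Matrix.SpecialLinearGroup.toGL x ∈ H
    rw [htoGL]; exact u.2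
  have hx1 : x ≠ 1 := by
    intro h
    rw [h, map_one] at htoGL
    rw [OneMemClass.coe_eq_one.1 htoGL.symm, orderOf_one] at hu
    exact (Fact.out : p.Prime).ne_one hu.symm
  have hxp : x ^ p = 1 := Matrix.SpecialLinearGroup.toGL_injective (by
    rw [map_pow, htoGL, hUp, map_one])
  have hxc := not_mem_center_of_odd p hp hTodd hxT hx1
  -- the fixed line of `x`
  set N : Matrix (Fin 2) (Fin 2) F := x.1 - 1 with hN
  have hN0 : N ≠ 0 := fun h => hx1 (Subtype.ext (by simpa [hN, sub_eq_zero] using h))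
  have hNN : N * N = 0 := by
    have h1 : tr x = 2 := tr_eq_two_of_pow p (k := 1) (by rw [pow_one]; exact hxp)
    rw [hN, sub_mul, mul_sub, mul_sub, one_mul, mul_one, one_mul, coe_sq, h1]
    module
  obtain ⟨w, hw⟩ : ∃ w, N.mulVec w ≠ 0 := by
    by_contra h
    push Not at h
    exact hN0 (Matrix.ext_of_mulVec_single fun i => by rw [h, Matrix.zero_mulVec])
  set v := N.mulVec w with hv
  have hNv : N.mulVec v = 0 := by rw [hv, Matrix.mulVec_mulVec, hNN, Matrix.zero_mulVec]
  refine ⟨v, hw, fun g hg => ?_⟩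
  -- the conjugate of `x` by `g`
  have hydet : ((g * U * g⁻¹ : GL (Fin 2) F) : Matrix (Fin 2) (Fin 2) F).det = 1 := by
    rw [Units.val_mul, Units.val_mul, Matrix.det_mul, Matrix.det_mul, hUdet, mul_one,
      ← Matrix.det_mul, ← Units.val_mul, mul_inv_cancel, Units.val_one, Matrix.det_one]
  set y : SL2 F := ⟨_, hydet⟩ with hy
  have hyGL : Matrix.SpecialLinearGroup.toGL y = g * U * g⁻¹ := Units.ext rfl
  have hyT : y ∈ T := by
    show Matrix.SpecialLinearGroup.toGL y ∈ H
    rw [hyGL]
    exact H.mul_mem (H.mul_mem hg u.2) (H.inv_mem hg)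
  have hyp : y ^ p = 1 := Matrix.SpecialLinearGroup.toGL_injective (by
    rw [map_pow, hyGL, conj_pow, hUp, mul_one, mul_inv_cancel, map_one])
  have hcm := commute_of_orderOf_eq p hp hTodd (x := ⟨y, hyT⟩) (y := ⟨x, hxT⟩)
    (Subtype.ext hyp) (Subtype.ext hxp)
  obtain ⟨a, b, hab⟩ := exists_lin_of_commute hxc (congrArg (fun t : T => t.1.1) hcm.eq)
  have hab' : (y.1 : Matrix (Fin 2) (Fin 2) F) = lin x a b := hab
  have hyv : y.1.mulVec v = (a + b) • v := by
    have h1 : x.1.mulVec v = v := by
      rw [hN, Matrix.sub_mulVec, Matrix.one_mulVec, sub_eq_zero] at hNv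
      exact hNv
    rw [hab', lin, Matrix.add_mulVec, Matrix.smul_mulVec, Matrix.smul_mulVec,
      Matrix.one_mulVec, h1, add_smul]
  have hy1 : tr y = 2 := tr_eq_two_of_pow p (k := 1) (by rw [pow_one]; exact hyp)
  have hx2 : tr x = 2 := tr_eq_two_of_pow p (k := 1) (by rw [pow_one]; exact hxp)
  have hab1 : a + b = 1 := by
    have := tr_lin _ _ hab'
    rw [hy1, hx2] at this
    exact mul_left_cancel₀ (two_ne_zero' p hp) (by linear_combination -this)
  rw [hab1, one_smul] at hyv
  -- so `x` fixes `g⁻¹ v`, and `N` kills the span of `v` and `g⁻¹ v`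
  set z := ((g⁻¹ : GL (Fin 2) F) : Matrix (Fin 2) (Fin 2) F).mulVec v with hz
  have hxz : x.1.mulVec z = z := by
    have h := congrArg (fun q => ((g⁻¹ : GL (Fin 2) F) : Matrix (Fin 2) (Fin 2) F).mulVec q) hyv
    simp only [hy, Matrix.mulVec_mulVec] at h
    rw [Units.val_mul, Units.val_mul, ← mul_assoc, ← mul_assoc, ← Units.val_mul,
      inv_mul_cancel, Units.val_one, one_mul] at h
    rw [hz, Matrix.mulVec_mulVec]
    exact h
  have hNz : N.mulVec z = 0 := by
    rw [hN, Matrix.sub_mulVec, Matrix.one_mulVec, hxz, sub_self]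
  have hspan : z ∈ Submodule.span F {v} := by
    by_contra hns
    have hli : LinearIndependent F ![v, z] := by
      rw [LinearIndependent.pair_iff]
      intro s t hst
      by_cases ht : t = 0
      · rw [ht, zero_smul, add_zero] at hst
        exact ⟨(smul_eq_zero.1 hst).resolve_right hw, ht⟩
      · refine absurd ?_ hns
        rw [Submodule.mem_span_singleton]
        refine ⟨-(t⁻¹ * s), ?_⟩
        have h := congrArg (fun q => t⁻¹ • q) hst
        simp only [smul_add, smul_smul, inv_mul_cancel₀ ht, one_smul, smul_zero] at h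
        rw [neg_smul, eq_comm, eq_neg_iff_add_eq_zero, add_comm]
        exact h
    have htop : Submodule.span F (Set.range ![v, z]) = ⊤ :=
      hli.span_eq_top_of_card_eq_finrank (by simp)
    have hker : Submodule.span F (Set.range ![v, z]) ≤ LinearMap.ker N.mulVecLin := by
      rw [Submodule.span_le]
      rintro q ⟨i, rfl⟩
      fin_cases i
      · simpa using hNv
      · simpa using hNz
    rw [htop] at hker
    exact hw (LinearMap.mem_ker.1 (hker (Submodule.mem_top (x := w))))
  obtain ⟨c, hc⟩ := Submodule.mem_span_singleton.1 hspan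
  have hgz : (g : Matrix (Fin 2) (Fin 2) F).mulVec z = v := by
    rw [hz, Matrix.mulVec_mulVec, ← Units.val_mul, mul_inv_cancel, Units.val_one,
      Matrix.one_mulVec]
  rw [← hc, Matrix.mulVec_smul] at hgz
  have hc0 : c ≠ 0 := by
    rintro rfl
    exact hw (by simpa using hgz.symm)
  rw [Submodule.mem_span_singleton]
  refine ⟨c⁻¹, ?_⟩
  nth_rewrite 1 [← hgz]
  rw [smul_smul, inv_mul_cancel₀ hc0, one_smul]

end Cfsg.Agent.GL2Odd
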