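/-
The derived subgroup of a finite odd order subgroup of `GL_2` in characteristic `p` is a `p`-group.

* `pow_char_of_mem_commutator`
* `commute_of_not_dvd` : if `p` does not divide the order, the group is abelian
-/
import Cfsg.Agent.Lib.GL2Odd.Main

set_option autoImplicit false

open Matrix Cfsg.Agent.PSL2

namespace Cfsg.Agent.GL2Odd

variable {F : Type*} [Field F] (p : ℕ) [Fact p.Prime] [CharP F p]

/-- An odd order subgroup of `GL_2` of order prime to `p` is abelian. -/
theorem commute_of_not_dvd (hp : p ≠ 2) (H : Subgroup (GL (Fin 2) F)) [Finite H]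
    (hodd : Odd (Nat.card H)) (hdvd : ¬ p ∣ Nat.card H) {g h : GL (Fin 2) F} (hg : g ∈ H)
    (hh : h ∈ H) : g * h = h * g := by
  classical
  let T : Subgroup (SL2 F) := H.comap Matrix.SpecialLinearGroup.toGL
  let f : T → H := fun t => ⟨Matrix.SpecialLinearGroup.toGL t.1, t.2⟩
  have hf : Function.Injective f := fun a b h =>
    Subtype.ext (Matrix.SpecialLinearGroup.toGL_injective (congrArg Subtype.val h))
  haveI : Finite T := Finite.of_injective f hf
  let φ : T →* H :=
    MonoidHom.mk' f fun a b => Subtype.ext (map_mul Matrix.SpecialLinearGroup.toGL a.1 b.1)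
  have hTd : Nat.card T ∣ Nat.card H := Subgroup.card_dvd_of_injective φ hf
  have hTodd : Odd (Nat.card T) := Odd.of_dvd_nat hodd hTd
  have hpow : ∀ x : T, x ^ p = 1 → x = 1 := fun x hx => orderOf_eq_one_iff.1 <| by
    rcases (Nat.dvd_prime (Fact.out : p.Prime)).1 (orderOf_dvd_of_pow_eq_one hx) with h | h
    · exact h
    · exact absurd ((h ▸ orderOf_dvd_natCard x).trans hTd) hdvd
  have hcount := counted_of_odd p hp hTodd
  have hTc : ∀ y z : T, Commute z y := by
    intro y z
    by_cases hy : y = 1
    · rw [hy]; exact Commute.one_right z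
    have hcard := hcount.card_semisimple (y := y) fun h => hy (hpow y h)
    set C := Subgroup.centralizer ({y} : Set T)
    have h1 : Nat.card {x : T // x ^ p ≠ 1} = Nat.card T - 1 := by
      cases nonempty_fintype T
      rw [Nat.card_eq_fintype_card, Nat.card_eq_fintype_card, Fintype.card_subtype_compl]
      congr 1
      rw [Fintype.card_eq_one_iff]
      exact ⟨⟨1, one_pow p⟩, fun x => Subtype.ext (hpow x.1 x.2)⟩
    rw [h1, Nat.mul_sub, mul_one, Subgroup.index_mul_card] at hcard
    have hle : C.index ≤ Nat.card T :=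
      Nat.le_of_dvd Nat.card_pos (Subgroup.index_dvd_card C)
    have hpos : 0 < C.index := Nat.pos_of_ne_zero Subgroup.index_ne_zero_of_finite
    have hidx : C.index = 1 := by omega
    rw [Subgroup.index_eq_one] at hidx
    exact Subgroup.mem_centralizer_singleton_iff.1 (hidx ▸ Subgroup.mem_top z : z ∈ C)
  by_cases hT : ∀ x : T, x = 1
  · -- the determinant is injective
    set c : GL (Fin 2) F := g * h * g⁻¹ * h⁻¹ with hc
    have hdet : (c : Matrix (Fin 2) (Fin 2) F).det = 1 := by
      have : Matrix.GeneralLinearGroup.det c = 1 := by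
        rw [hc, map_mul, map_mul, map_mul, map_inv, map_inv, mul_right_comm _ _
          ((Matrix.GeneralLinearGroup.det g)⁻¹), mul_inv_cancel, one_mul, mul_inv_cancel]
      exact congrArg Units.val this
    have hxT : (⟨_, hdet⟩ : SL2 F) ∈ T := by
      show Matrix.SpecialLinearGroup.toGL (⟨_, hdet⟩ : SL2 F) ∈ H
      rw [show Matrix.SpecialLinearGroup.toGL (⟨_, hdet⟩ : SL2 F) = c from Units.ext rfl]
      exact H.mul_mem (H.mul_mem (H.mul_mem hg hh) (H.inv_mem hg)) (H.inv_mem hh)
    have h1 := congrArg (fun t : T => Matrix.SpecialLinearGroup.toGL t.1) (hT ⟨_, hxT⟩)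
    simp only [OneMemClass.coe_one, map_one] at h1
    rw [show Matrix.SpecialLinearGroup.toGL (⟨_, hdet⟩ : SL2 F) = c from Units.ext rfl, hc,
      mul_inv_eq_one, mul_inv_eq_iff_eq_mul] at h1
    exact h1
  · push Not at hT
    obtain ⟨x, hx⟩ := hT
    have hcx := not_mem_center_of_odd p hp hTodd x.2 fun h => hx (Subtype.ext h)
    set U : GL (Fin 2) F := Matrix.SpecialLinearGroup.toGL x.1 with hU
    have key : ∀ k ∈ H, Commute k U := by
      intro k hk
      have hdet : ((k * U * k⁻¹ : GL (Fin 2) F) : Matrix (Fin 2) (Fin 2) F).det = 1 := by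
        rw [Units.val_mul, Units.val_mul, Matrix.det_mul, Matrix.det_mul,
          show (U : Matrix (Fin 2) (Fin 2) F).det = 1 from x.1.2, mul_one, ← Matrix.det_mul,
          ← Units.val_mul, mul_inv_cancel, Units.val_one, Matrix.det_one]
      set y : SL2 F := ⟨_, hdet⟩ with hy
      have hyGL : Matrix.SpecialLinearGroup.toGL y = k * U * k⁻¹ := Units.ext rfl
      have hyT : y ∈ T := by
        show Matrix.SpecialLinearGroup.toGL y ∈ H
        rw [hyGL]
        exact H.mul_mem (H.mul_mem hk x.2) (H.inv_mem hk)
      have hcm := hTc x ⟨y, hyT⟩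
      obtain ⟨a, b, hab⟩ := exists_lin_of_commute hcx (congrArg (fun t : T => t.1.1) hcm.eq)
      have hab' : y.1 = lin (x : SL2 F) a b := hab
      set t := tr (x : SL2 F) with ht
      have hx2 : x ^ p ≠ 1 := fun h => hx (hpow x h)
      have ht2 : t ≠ 2 := fun h => hx2 (Subtype.ext (by simpa using pow_char_of_tr_two p h))
      have ht2' : t ≠ -2 := tr_ne_neg_two p hp hTodd x.2
      have htr : t = 2 * a + b * t := by
        rw [ht, ← tr_lin _ _ hab']
        show tr (x : SL2 F) = y.1 0 0 + y.1 1 1
        rw [← Matrix.trace_fin_two, hy]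
        show _ = ((k * U * k⁻¹ : GL (Fin 2) F) : Matrix (Fin 2) (Fin 2) F).trace
        rw [Units.val_mul, Units.val_mul, Matrix.trace_mul_cycle, ← Units.val_mul,
          inv_mul_cancel, Units.val_one, one_mul, Matrix.trace_fin_two]
        rfl
      have hdet2 : a ^ 2 + t * a * b + b ^ 2 = 1 := by rw [ht, ← det_lin, ← hab']; exact y.2
      have hkey : (1 - b) * (1 + b) * ((t - 2) * (t + 2)) = 0 := by
        linear_combination 4 * hdet2 + (2 * a + t + t * b) * htr
      have hb : b = 1 ∨ b = -1 := by
        rcases mul_eq_zero.1 hkey with h | h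
        · rcases mul_eq_zero.1 h with h | h
          · left; linear_combination -h
          · right; linear_combination h
        · rcases mul_eq_zero.1 h with h | h
          · exact absurd (sub_eq_zero.1 h) ht2
          · exact absurd (eq_neg_of_add_eq_zero_left h) ht2'
      have h2ne : (2 : F) ≠ 0 := two_ne_zero' p hp
      rcases hb with rfl | rfl
      · have ha : a = 0 := mul_left_cancel₀ h2ne (by linear_combination -htr)
        have h1 : y = x := Subtype.ext (by rw [hab', ha]; simp [lin])
        rw [h1] at hyGL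
        exact (mul_inv_eq_iff_eq_mul.1 hyGL.symm)
      · have ha : a = t := mul_left_cancel₀ h2ne (by linear_combination -htr)
        have h1 : y = (x : SL2 F)⁻¹ := by
          apply Subtype.ext
          rw [hab', ha, ht, Matrix.SpecialLinearGroup.coe_inv, Matrix.adjugate_fin_two]
          ext i j
          fin_cases i <;> fin_cases j <;> simp [lin, tr]
        rw [h1, map_inv] at hyGL
        have hinv : k * U * k⁻¹ = U⁻¹ := hyGL.symm
        have hsq : Commute (k * k) U := by
          have h2 : k * U⁻¹ * k⁻¹ = U := by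
            calc k * U⁻¹ * k⁻¹ = (k * U * k⁻¹)⁻¹ := by group
              _ = U := by rw [hinv, inv_inv]
          show (k * k) * U = U * (k * k)
          calc (k * k) * U = k * (k * U * k⁻¹) * k⁻¹ * (k * k) := by group
            _ = k * U⁻¹ * k⁻¹ * (k * k) := by rw [hinv]
            _ = U * (k * k) := by rw [h2]
        obtain ⟨m, hm⟩ := (Odd.of_dvd_nat hodd (orderOf_dvd_natCard (⟨k, hk⟩ : H)) :
          Odd (orderOf (⟨k, hk⟩ : H)))
        have hk' : k = (k * k) ^ (m + 1) := by
          rw [← pow_two, ← pow_mul, show 2 * (m + 1) = orderOf (⟨k, hk⟩ : H) + 1 by omega, pow_succ,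
            ← Subgroup.orderOf_coe (⟨k, hk⟩ : H), pow_orderOf_eq_one, one_mul]
        rw [hk']
        exact hsq.pow_left _
    have e : ∀ k ∈ H, (k : Matrix (Fin 2) (Fin 2) F) * x.1.1 = x.1.1 * k := fun k hk =>
      congrArg Units.val (key k hk).eq
    obtain ⟨a, b, ha⟩ := exists_lin_of_commute hcx (e g hg)
    obtain ⟨c, d, hc⟩ := exists_lin_of_commute hcx (e h hh)
    apply Units.ext
    rw [Units.val_mul, Units.val_mul, ha, hc]
    simp only [lin, add_mul, mul_add, smul_mul_assoc, mul_smul_comm, one_mul, mul_one, smul_smul]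
    module

/-- Elements of the derived subgroup of an odd order subgroup of `GL_2` have order dividing `p`. -/
theorem pow_char_of_mem_commutator (hp : p ≠ 2) (H : Subgroup (GL (Fin 2) F)) [Finite H]
    (hodd : Odd (Nat.card H)) {g : H} (hg : g ∈ commutator H) : g ^ p = 1 := by
  classical
  by_cases hdvd : p ∣ Nat.card H
  · obtain ⟨v, hv, hfix⟩ := exists_fixed_line p hp H hodd hdvd
    have hχ : ∀ k : H, ∃ c : F,
        ((k : GL (Fin 2) F) : Matrix (Fin 2) (Fin 2) F).mulVec v = c • v := fun k => by
      obtain ⟨c, hc⟩ := Submodule.mem_span_singleton.1 (hfix k k.2)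
      exact ⟨c, hc.symm⟩
    choose χ hχ using hχ
    let Χ : H →* F :=
      { toFun := χ
        map_one' := by
          have := hχ 1
          rw [OneMemClass.coe_one, Units.val_one, Matrix.one_mulVec] at this
          exact smul_left_injective F hv (by simpa using this.symm)
        map_mul' := fun a b => smul_left_injective F hv (by
          show χ (a * b) • v = (χ a * χ b) • v
          rw [← hχ, Subgroup.coe_mul, Units.val_mul, ← Matrix.mulVec_mulVec, hχ b,
            Matrix.mulVec_smul, hχ a, smul_smul, mul_comm]) }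
    have h1 : Χ g = 1 := by
      have := Abelianization.commutator_subset_ker Χ.toHomUnits hg
      rw [MonoidHom.mem_ker] at this
      exact congrArg Units.val this
    have hdet : ((g : GL (Fin 2) F) : Matrix (Fin 2) (Fin 2) F).det = 1 := by
      have := Abelianization.commutator_subset_ker
        (Matrix.GeneralLinearGroup.det.comp H.subtype) hg
      rw [MonoidHom.mem_ker] at this
      exact congrArg Units.val this
    set y : SL2 F := ⟨_, hdet⟩ with hy
    have htr : tr y = 2 := by
      have h0 : (lin y (-1) 1).det = 0 := by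
        rw [← Matrix.exists_mulVec_eq_zero_iff]
        refine ⟨v, hv, ?_⟩
        have h2 := hχ g
        rw [show χ g = 1 from h1, one_smul] at h2
        rw [lin, Matrix.add_mulVec, Matrix.smul_mulVec, Matrix.smul_mulVec, Matrix.one_mulVec,
          one_smul, show y.1 = ((g : GL (Fin 2) F) : Matrix (Fin 2) (Fin 2) F) from rfl, h2]
        simp
      rw [det_lin] at h0
      linear_combination -h0
    have h3 := congrArg Subtype.val (pow_char_of_tr_two p htr)
    refine Subtype.ext (Units.ext ?_)
    rw [SubgroupClass.coe_pow, Units.val_pow_eq_pow_val]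
    exact (Matrix.SpecialLinearGroup.coe_pow y p).symm.trans (by simpa using h3)
  · have hc : commutator H = ⊥ := by
      rw [eq_bot_iff, commutator_def, Subgroup.commutator_le]
      intro a _ b _
      rw [Subgroup.mem_bot, commutatorElement_eq_one_iff_mul_comm]
      exact Subtype.ext (commute_of_not_dvd p hp H hodd hdvd a.2 b.2)
    rw [hc, Subgroup.mem_bot] at hg
    rw [hg, one_pow]

end Cfsg.Agent.GL2Odd
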